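import Mathlib

/-! Coordinates in a three dimensional Lie algebra. -/

set_option autoImplicit false

universe u v

namespace PLieDeformH7

variable {R : Type u} [CommRing R] {L : Type v} [LieRing L] [LieAlgebra R L]

/-- The element with the given coordinates. -/
noncomputable def V (bs : Module.Basis (Fin 3) R L) (u : Fin 3 → R) : L :=
  u 0 • bs 0 + u 1 • bs 1 + u 2 • bs 2

variable (bs : Module.Basis (Fin 3) R L)

lemma repr_V (u : Fin 3 → R) (i : Fin 3) : bs.repr (V bs u) i = u i := by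
  fin_cases i <;> simp [V, Finsupp.single_apply]

lemma V_injective {u w : Fin 3 → R} (h : V bs u = V bs w) : u = w :=
  funext fun i => by rw [← repr_V bs u i, h, repr_V bs w i]

lemma V_repr (x : L) : V bs (fun i => bs.repr x i) = x := by
  conv_rhs => rw [← bs.sum_repr x, Fin.sum_univ_three]
  rfl

lemma bs_eq (i : Fin 3) : bs i = V bs (Pi.single i 1) := by
  fin_cases i <;> simp [V]

/-- The structure constants applied to two coordinate vectors. -/
def br (P Q W u w : Fin 3 → R) : Fin 3 → R := fun i =>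
  (u 0 * w 1 - u 1 * w 0) * P i + (u 0 * w 2 - u 2 * w 0) * Q i + (u 1 * w 2 - u 2 * w 1) * W i

variable {bs} {P Q W : Fin 3 → R}

lemma lie_V (h01 : ⁅bs 0, bs 1⁆ = V bs P) (h02 : ⁅bs 0, bs 2⁆ = V bs Q) (h12 : ⁅bs 1, bs 2⁆ = V bs W)
    (u w : Fin 3 → R) : ⁅V bs u, V bs w⁆ = V bs (br P Q W u w) := by
  have h10 : ⁅bs 1, bs 0⁆ = -V bs P := by rw [← lie_skew, h01]
  have h20 : ⁅bs 2, bs 0⁆ = -V bs Q := by rw [← lie_skew, h02]
  have h21 : ⁅bs 2, bs 1⁆ = -V bs W := by rw [← lie_skew, h12]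
  conv_lhs =>
    simp only [V, add_lie, lie_add, smul_lie, lie_smul, lie_self, smul_zero, h01, h02, h12, h10, h20, h21]
  simp only [V, br, smul_neg, smul_add, neg_add]
  module

lemma ad_pow_V (h01 : ⁅bs 0, bs 1⁆ = V bs P) (h02 : ⁅bs 0, bs 2⁆ = V bs Q)
    (h12 : ⁅bs 1, bs 2⁆ = V bs W) (u w : Fin 3 → R) (n : ℕ) :
    (LieAlgebra.ad R L (V bs u) ^ n) (V bs w) = V bs ((br P Q W u)^[n] w) := by
  induction n with
  | zero => simp
  | succ n ih =>
    rw [pow_succ', Module.End.mul_apply, ih, LieAlgebra.ad_apply, lie_V h01 h02 h12,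
      Function.iterate_succ_apply']

lemma ad_pow_bs (h01 : ⁅bs 0, bs 1⁆ = V bs P) (h02 : ⁅bs 0, bs 2⁆ = V bs Q)
    (h12 : ⁅bs 1, bs 2⁆ = V bs W) (i j : Fin 3) (n : ℕ) :
    (LieAlgebra.ad R L (bs i) ^ n) (bs j) =
      V bs ((br P Q W (Pi.single i 1))^[n] (Pi.single j 1)) := by
  rw [bs_eq bs i, bs_eq bs j]
  exact ad_pow_V h01 h02 h12 _ _ n

lemma ad_pow_eq_iff (h01 : ⁅bs 0, bs 1⁆ = V bs P) (h02 : ⁅bs 0, bs 2⁆ = V bs Q)
    (h12 : ⁅bs 1, bs 2⁆ = V bs W) (i : Fin 3) (v : Fin 3 → R) (n : ℕ) :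
    LieAlgebra.ad R L (bs i) ^ n = LieAlgebra.ad R L (V bs v) ↔
      ∀ j : Fin 3, (br P Q W (Pi.single i 1))^[n] (Pi.single j 1) = br P Q W v (Pi.single j 1) := by
  constructor
  · intro h j
    apply V_injective bs
    rw [← ad_pow_bs h01 h02 h12, h, LieAlgebra.ad_apply, ← lie_V h01 h02 h12, ← bs_eq]
  · intro h
    refine bs.ext fun j => ?_
    rw [ad_pow_bs h01 h02 h12, h, LieAlgebra.ad_apply, ← lie_V h01 h02 h12, ← bs_eq]

lemma jacobi (h01 : ⁅bs 0, bs 1⁆ = V bs P) (h02 : ⁅bs 0, bs 2⁆ = V bs Q)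
    (h12 : ⁅bs 1, bs 2⁆ = V bs W) (i : Fin 3) :
    br P Q W (Pi.single 0 1) (br P Q W (Pi.single 1 1) (Pi.single 2 1)) i =
      br P Q W (br P Q W (Pi.single 0 1) (Pi.single 1 1)) (Pi.single 2 1) i +
      br P Q W (Pi.single 1 1) (br P Q W (Pi.single 0 1) (Pi.single 2 1)) i := by
  have h := leibniz_lie (bs 0) (bs 1) (bs 2)
  rw [bs_eq bs 0, bs_eq bs 1, bs_eq bs 2] at h
  simp only [lie_V h01 h02 h12] at h
  rw [show ∀ a b : Fin 3 → R, V bs a + V bs b = V bs (a + b) from fun a b => by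
    simp only [V, Pi.add_apply, add_smul]; abel] at h
  exact congrFun (V_injective bs h) i

end PLieDeformH7
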